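import Groth.Agent.Lib.CovGon28.Base
import Mathlib.FieldTheory.SeparableClosure
import Mathlib.RingTheory.TensorProduct.Basic
import Mathlib.FieldTheory.IsAlgClosed.AlgebraicClosure
import Mathlib.RingTheory.Localization.FractionRing

/-!
# Covering diagrams under algebraic separable extensions of the constants
-/

set_option autoImplicit false
set_option linter.style.haveILetI false
universe u

open W4c3irrattreebun IntermediateField

namespace CovGonH7

variable {k Ω : Type u} [Field k] [Field Ω] [Algebra k Ω]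

set_option maxHeartbeats 1000000 in
/-- A field generated by constants, a coordinate and a spanning family closed under products. -/
theorem build_aux {C : Set Ω} {t : Ω} {e : ℕ} {w : Fin e → Ω} {M : IntermediateField k Ω}
    {Q : Type u} [Field Q] [Algebra k Q] [Algebra Q M] [IsScalarTower k Q M]
    (hQ : ∀ c ∈ C, ∃ q : Q, ((algebraMap Q M q : M) : Ω) = c) (ht : t ∈ M)
    (F1 : IntermediateField Q M) (htF : (⟨t, ht⟩ : M) ∈ F1)
    (hM : M ≤ adjoin k (C ∪ {t} ∪ Set.range w)) (hw : ∀ i, w i ∈ M)
    (h1 : (1 : Ω) ∈ Submodule.span (adjoin k (C ∪ {t})) (Set.range w))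
    (hmul : ∀ i j, w i * w j ∈ Submodule.span (adjoin k (C ∪ {t})) (Set.range w)) :
    Module.Finite F1 M ∧ Module.finrank F1 M ≤ e := by
  let P : IntermediateField k Ω := adjoin k (C ∪ {t})
  have hP : ∀ c : P, ∃ c' : F1, ((c' : M) : Ω) = c := by
    rintro ⟨x, hx⟩
    induction hx using IntermediateField.adjoin_induction with
    | mem x hx =>
      rcases hx with hx | hx
      · obtain ⟨q, hq⟩ := hQ x hx
        exact ⟨⟨algebraMap Q M q, F1.algebraMap_mem q⟩, hq⟩
      · exact ⟨⟨⟨t, ht⟩, htF⟩, (Set.mem_singleton_iff.1 hx).symm⟩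
    | algebraMap a =>
      refine ⟨⟨algebraMap k M a, ?_⟩, rfl⟩
      rw [IsScalarTower.algebraMap_apply k Q M]
      exact F1.algebraMap_mem _
    | add x y _ _ h1 h2 =>
      obtain ⟨a, rfl⟩ := h1
      obtain ⟨b, rfl⟩ := h2
      exact ⟨a + b, rfl⟩
    | inv x _ h1 =>
      obtain ⟨a, rfl⟩ := h1
      exact ⟨a⁻¹, rfl⟩
    | mul x y _ _ h1 h2 =>
      obtain ⟨a, rfl⟩ := h1
      obtain ⟨b, rfl⟩ := h2
      exact ⟨a * b, rfl⟩
  let w' : Fin e → M := fun i => ⟨w i, hw i⟩
  let V : Submodule F1 M := Submodule.span F1 (Set.range w')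
  have key : ∀ x : Ω, x ∈ Submodule.span P (Set.range w) → ∃ y ∈ V, (y : Ω) = x := by
    intro x hx
    induction hx using Submodule.span_induction with
    | mem x hx => obtain ⟨i, rfl⟩ := hx; exact ⟨w' i, Submodule.subset_span ⟨i, rfl⟩, rfl⟩
    | zero => exact ⟨0, V.zero_mem, rfl⟩
    | add a b _ _ ha hb =>
      obtain ⟨a', h1, rfl⟩ := ha
      obtain ⟨b', h2, rfl⟩ := hb
      exact ⟨a' + b', V.add_mem h1 h2, rfl⟩
    | smul c a _ ha =>
      obtain ⟨a', h1, rfl⟩ := ha
      obtain ⟨c', hc'⟩ := hP c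
      refine ⟨c' • a', V.smul_mem _ h1, ?_⟩
      show ((c' : M) : Ω) * (a' : Ω) = (c : Ω) * a'
      rw [hc']
  have h1V : (1 : M) ∈ V := by
    obtain ⟨y, hy, hy1⟩ := key 1 h1
    rwa [show y = 1 from Subtype.ext hy1] at hy
  have hmulV : ∀ x y, x ∈ V → y ∈ V → x * y ∈ V := by
    have : V * V ≤ V := by
      rw [Submodule.span_mul_span, Submodule.span_le]
      rintro _ ⟨_, ⟨i, rfl⟩, _, ⟨j, rfl⟩, rfl⟩
      obtain ⟨y, hy, hy'⟩ := key _ (hmul i j)
      rwa [show y = w' i * w' j from Subtype.ext hy'] at hy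
    exact fun x y hx hy => this (Submodule.mul_mem_mul hx hy)
  let W : Subalgebra F1 M := V.toSubalgebra h1V hmulV
  haveI : FiniteDimensional F1 V := FiniteDimensional.span_of_finite F1 (Set.finite_range w')
  haveI : FiniteDimensional F1 W := ‹FiniteDimensional F1 V›
  haveI : Algebra.IsIntegral F1 W := Algebra.IsIntegral.of_finite F1 W
  have hWf : IsField W := isField_of_isIntegral_of_isField' (Field.toIsField F1)
  have hgen : ∀ z ∈ adjoin k (C ∪ {t} ∪ Set.range w), ∃ y ∈ V, (y : Ω) = z := by
    intro z hz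
    induction hz using IntermediateField.adjoin_induction with
    | mem x hx =>
      rcases hx with hx | ⟨i, rfl⟩
      · obtain ⟨c', hc'⟩ := hP ⟨x, subset_adjoin k _ hx⟩
        refine ⟨c' • (1 : M), V.smul_mem _ h1V, ?_⟩
        show ((c' : M) : Ω) * 1 = x
        rw [mul_one, hc']
      · exact ⟨w' i, Submodule.subset_span ⟨i, rfl⟩, rfl⟩
    | algebraMap a =>
      obtain ⟨c', hc'⟩ := hP ⟨algebraMap k Ω a, P.algebraMap_mem a⟩
      refine ⟨c' • (1 : M), V.smul_mem _ h1V, ?_⟩
      show ((c' : M) : Ω) * 1 = _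
      rw [mul_one, hc']
    | add x y _ _ h1 h2 =>
      obtain ⟨a, ha, rfl⟩ := h1
      obtain ⟨b, hb, rfl⟩ := h2
      exact ⟨a + b, V.add_mem ha hb, rfl⟩
    | inv x _ h1 =>
      obtain ⟨a, ha, rfl⟩ := h1
      exact ⟨a⁻¹, (W.toIntermediateField' hWf).inv_mem ha, rfl⟩
    | mul x y _ _ h1 h2 =>
      obtain ⟨a, ha, rfl⟩ := h1
      obtain ⟨b, hb, rfl⟩ := h2
      exact ⟨a * b, hmulV a b ha hb, rfl⟩
  have htop : V = ⊤ := by
    refine eq_top_iff.2 fun x _ => ?_
    obtain ⟨y, hy, hyx⟩ := hgen _ (hM x.2)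
    rwa [show y = x from Subtype.ext hyx] at hy
  haveI hfin : Module.Finite F1 M := ⟨by rw [← htop]; exact Submodule.fg_span (Set.finite_range w')⟩
  refine ⟨hfin, ?_⟩
  calc Module.finrank F1 M = Module.finrank F1 (⊤ : Submodule F1 M) := (finrank_top F1 M).symm
    _ = Module.finrank F1 V := by rw [htop]
    _ ≤ e := (finrank_range_le_card (R := F1) w').trans (Fintype.card_fin e).le

/-- Transcendence over a smaller field. -/
theorem transcendental_of_le {E E' : IntermediateField k Ω} (hle : E ≤ E') {t : Ω} (h : Transcendental E' t) :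
    Transcendental E t := by
  letI : Algebra E E' := (inclusion hle).toRingHom.toAlgebra
  haveI : IsScalarTower E E' Ω := IsScalarTower.of_algebraMap_eq fun _ => rfl
  exact fun ha => h (ha.extendScalars (inclusion hle).injective)

/-- Descend a diagram along a separable algebraic extension. -/
theorem down {k K K' : Type u} [Field k] [Field K] [Field K'] [Algebra k K] [Algebra k K'] [Algebra K K']
    [IsScalarTower k K K'] [Algebra.IsSeparable K K'] (hfg : (⊤ : IntermediateField k K).FG) {e : ℕ}
    (D : CovDiag.{u} k K' e) (hD : Algebra.IsSeparable K' D.KC) :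
    ∃ e' ≤ e, ∃ D' : CovDiag.{u} k K e', Algebra.IsSeparable K D'.KC := by
  classical
  letI : Algebra K D.KC := ((algebraMap K' D.KC).comp (algebraMap K K')).toAlgebra
  haveI : IsScalarTower K K' D.KC := IsScalarTower.of_algebraMap_eq fun _ => rfl
  haveI : IsScalarTower k K D.KC := IsScalarTower.of_algebraMap_eq fun a => by
    rw [IsScalarTower.algebraMap_apply K K' D.KC, ← IsScalarTower.algebraMap_apply k K K',
      ← IsScalarTower.algebraMap_apply k K' D.KC]
  haveI := hD
  haveI : Algebra.IsSeparable K D.KC := Algebra.IsSeparable.trans K K' D.KC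
  let F : IntermediateField D.KB D.KC := adjoin D.KB {D.t}
  haveI : FiniteDimensional F D.KC := D.finiteT
  let b : Module.Basis (Fin e) F D.KC := (Module.finBasis F D.KC).reindex (finCongr D.finrank_eq)
  let B : Set D.KC := Set.range (algebraMap D.KB D.KC)
  have hF : ∀ c : F, (c : D.KC) ∈ adjoin k (B ∪ {D.t}) := by
    intro c
    have h : (c : D.KC) ∈ Subfield.closure (Set.range (algebraMap D.KB D.KC) ∪ {D.t}) := c.2
    exact (Subfield.closure_le.2 (fun x hx => subset_adjoin k _ hx) :
      _ ≤ (adjoin k (B ∪ {D.t})).toSubfield) h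
  obtain ⟨g, hg⟩ := hfg
  let X : Finset D.KC := (Finset.univ.image fun p : Fin e × Fin e => b p.1 * b p.2) ∪ g.image (algebraMap K D.KC) ∪ {1}
  let coeffs : Finset F := X.biUnion fun x => Finset.univ.image fun i => b.repr x i
  choose T hT hTc using fun c : F => IntermediateField.exists_finset_of_mem_adjoin (hF c)
  let C : Set D.KC := (⋃ c ∈ coeffs, (T c : Set D.KC)) ∩ B
  have hCfin : C.Finite := (coeffs.finite_toSet.biUnion fun c _ => (T c).finite_toSet).inter_of_left _
  let P : IntermediateField k D.KC := adjoin k (C ∪ {D.t})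
  have hcoef : ∀ c ∈ coeffs, (c : D.KC) ∈ P := by
    intro c hc
    refine adjoin.mono k _ _ ?_ (hTc c)
    intro x hx
    rcases hT c hx with h | h
    · exact Or.inl ⟨Set.mem_biUnion hc hx, h⟩
    · exact Or.inr h
  have hspan : ∀ x ∈ X, x ∈ Submodule.span P (Set.range b) := by
    intro x hx
    rw [← b.sum_repr x]
    refine Submodule.sum_mem _ fun i _ => ?_
    have hm := hcoef (b.repr x i) (Finset.mem_biUnion.2 ⟨x, hx, Finset.mem_image.2 ⟨i, Finset.mem_univ _, rfl⟩⟩)
    rw [show (b.repr x i) • b i = (⟨_, hm⟩ : P) • b i from rfl]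
    exact Submodule.smul_mem _ _ (Submodule.subset_span ⟨i, rfl⟩)
  let S : Set D.KC := C ∪ {D.t} ∪ Set.range b
  let M : IntermediateField K D.KC := adjoin K S
  haveI : Finite S := ((hCfin.union (Set.finite_singleton _)).union (Set.finite_range _)).to_subtype
  haveI : FiniteDimensional K M :=
    finiteDimensional_adjoin fun x _ => (Algebra.IsSeparable.isSeparable K x).isIntegral
  have hCM : C ⊆ M.restrictScalars k := fun x hx => subset_adjoin K S (Or.inl (Or.inl hx))
  have htM : D.t ∈ M.restrictScalars k := subset_adjoin K S (Or.inl (Or.inr rfl))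
  have hbM : ∀ i, b i ∈ M.restrictScalars k := fun i => subset_adjoin K S (Or.inr ⟨i, rfl⟩)
  have hPspan : ∀ x ∈ Submodule.span P (Set.range b), x ∈ adjoin k S := by
    intro x hx
    induction hx using Submodule.span_induction with
    | mem x hx => exact subset_adjoin k S (Or.inr hx)
    | zero => exact zero_mem _
    | add a b _ _ ha hb => exact add_mem ha hb
    | smul c a _ ha => exact mul_mem (adjoin.mono k _ _ Set.subset_union_left c.2) ha
  have hK : ∀ a : K, algebraMap K D.KC a ∈ adjoin k S := by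
    intro a
    have hle : adjoin k (g : Set K) ≤ (adjoin k S).comap (IsScalarTower.toAlgHom k K D.KC) :=
      adjoin_le_iff.2 fun y hy => hPspan _ (hspan _ (Finset.mem_union_left _
        (Finset.mem_union_right _ (Finset.mem_image.2 ⟨y, hy, rfl⟩))))
    exact hle (hg ▸ IntermediateField.mem_top)
  have hMle : M.restrictScalars k ≤ adjoin k S := by
    intro x hx
    have hx' : x ∈ Subfield.closure (Set.range (algebraMap K D.KC) ∪ S) := hx
    refine (Subfield.closure_le.2 ?_ : _ ≤ (adjoin k S).toSubfield) hx'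
    rintro y (⟨a, rfl⟩ | hy)
    · exact hK a
    · exact subset_adjoin k S hy
  letI : Algebra (adjoin k C) M :=
    ((algebraMap (adjoin k C) D.KC).codRestrict M fun c => adjoin_le_iff.2 hCM c.2).toAlgebra
  haveI : IsScalarTower k (adjoin k C) M := IsScalarTower.of_algebraMap_eq fun a => Subtype.ext rfl
  haveI : IsScalarTower (adjoin k C) M D.KC := IsScalarTower.of_algebraMap_eq fun _ => rfl
  letI : Algebra (adjoin k C) (M.restrictScalars k) := (inferInstance : Algebra (adjoin k C) M)
  haveI : IsScalarTower k (adjoin k C) (M.restrictScalars k) :=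
    (inferInstance : IsScalarTower k (adjoin k C) M)
  have hb := build_aux (M := M.restrictScalars k) (C := C) (t := D.t) (w := fun i => b i) (Q := adjoin k C)
    (fun c hc => ⟨⟨c, subset_adjoin k C hc⟩, rfl⟩) htM
    (adjoin (adjoin k C) ({⟨D.t, htM⟩} : Set M)) (mem_adjoin_simple_self _ _) hMle hbM
    (hspan 1 (Finset.mem_union_right _ (Finset.mem_singleton_self 1)))
    fun i j => hspan _ (Finset.mem_union_left _ (Finset.mem_union_left _
      (Finset.mem_image.2 ⟨(i, j), Finset.mem_univ _, rfl⟩)))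
  let E : IntermediateField k D.KC := (⊥ : IntermediateField D.KB D.KC).restrictScalars k
  have hE : Transcendental E D.t := (D.transc.extendScalars (⊥ : IntermediateField D.KB D.KC))
  have htr : Transcendental (adjoin k C) (⟨D.t, htM⟩ : M) := fun ha =>
    transcendental_of_le (adjoin_le_iff.2 fun x hx => by
      obtain ⟨y, rfl⟩ := hx.2
      exact (⊥ : IntermediateField D.KB D.KC).algebraMap_mem y : adjoin k C ≤ E) hE
      (ha.algebraMap : IsAlgebraic (adjoin k C) (algebraMap M D.KC ⟨D.t, htM⟩))
  haveI : Module.Finite (adjoin (adjoin k C) ({⟨D.t, htM⟩} : Set M)) M := hb.1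
  exact ⟨_, hb.2, { KC := M, KB := adjoin k C, t := ⟨D.t, htM⟩, transc := htr, finrank_eq := rfl },
    inferInstanceAs (Algebra.IsSeparable K M)⟩

/-- Push a diagram to a separable algebraic extension of the constants. -/
theorem up {k K L K' : Type u} [Field k] [Field K] [Field L] [Field K'] [Algebra k K] [Algebra k L] [Algebra k K']
    [Algebra K K'] [Algebra L K'] [IsScalarTower k K K'] [IsScalarTower k L K'] [Algebra.IsAlgebraic k L]
    [Algebra.IsSeparable K K']
    (hgen : adjoin k (Set.range (algebraMap K K') ∪ Set.range (algebraMap L K')) = ⊤) {e : ℕ}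
    (D : CovDiag.{u} k K e) (hD : Algebra.IsSeparable K D.KC) :
    ∃ e' ≤ e, ∃ D' : CovDiag.{u} L K' e', Algebra.IsSeparable K' D'.KC := by
  classical
  haveI := hD
  let Ω := AlgebraicClosure K'
  haveI : IsScalarTower k K Ω := IsScalarTower.of_algebraMap_eq fun a => by
    rw [IsScalarTower.algebraMap_apply K K' Ω, ← IsScalarTower.algebraMap_apply k K K',
      ← IsScalarTower.algebraMap_apply k K' Ω]
  let σ : D.KC →ₐ[K] Ω := IsAlgClosed.lift
  have hσk : ∀ a : k, σ (algebraMap k D.KC a) = algebraMap k Ω a := fun a => by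
    rw [IsScalarTower.algebraMap_apply k K D.KC, σ.commutes, ← IsScalarTower.algebraMap_apply]
  let F : IntermediateField D.KB D.KC := adjoin D.KB {D.t}
  haveI : FiniteDimensional F D.KC := D.finiteT
  let b : Module.Basis (Fin e) F D.KC := (Module.finBasis F D.KC).reindex (finCongr D.finrank_eq)
  let SL : Set Ω := Set.range ((algebraMap K' Ω).comp (algebraMap L K'))
  let C : Set Ω := Set.range (σ.toRingHom.comp (algebraMap D.KB D.KC)) ∪ SL
  let w : Fin e → Ω := fun i => σ (b i)
  let P : IntermediateField k Ω := adjoin k (C ∪ {σ D.t})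
  let σk : D.KC →ₐ[k] Ω := { σ.toRingHom with commutes' := hσk }
  have hσF : ∀ c : F, σ c ∈ P := fun c => by
    have h : (c : D.KC) ∈ Subfield.closure (Set.range (algebraMap D.KB D.KC) ∪ {D.t}) := c.2
    refine (Subfield.closure_le.2 ?_ : _ ≤ (P.toSubfield.comap σ.toRingHom)) h
    rintro x (⟨y, rfl⟩ | hx)
    · exact subset_adjoin k _ (Or.inl (Or.inl ⟨y, rfl⟩))
    · obtain rfl := Set.mem_singleton_iff.1 hx
      exact subset_adjoin k _ (Or.inr rfl)
  have hspan : ∀ x, σ x ∈ Submodule.span P (Set.range w) := by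
    intro x
    rw [← b.sum_repr x, map_sum]
    refine Submodule.sum_mem _ fun i _ => ?_
    rw [show σ ((b.repr x i) • b i) = (⟨_, hσF (b.repr x i)⟩ : P) • w i from map_mul σ _ _]
    exact Submodule.smul_mem _ _ (Submodule.subset_span ⟨i, rfl⟩)
  let β := Module.finBasis K D.KC
  let T : Set Ω := Set.range fun i => σ (β i)
  let M : IntermediateField K' Ω := adjoin K' T
  have hsepσ : ∀ x, IsSeparable K' (σ x) := fun x =>
    IsSeparable.tower_top K' (IsSeparable.map σ σ.injective (Algebra.IsSeparable.isSeparable K x))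
  haveI : FiniteDimensional K' M := finiteDimensional_adjoin fun x hx => by
    obtain ⟨i, rfl⟩ := hx
    exact (hsepσ _).isIntegral
  haveI : Algebra.IsSeparable K' M := (isSeparable_adjoin_iff_isSeparable K' Ω).2 fun x hx => by
    obtain ⟨i, rfl⟩ := hx
    exact hsepσ _
  have hσM : ∀ x, σ x ∈ M := fun x => by
    rw [← β.sum_repr x, map_sum]
    refine sum_mem fun i _ => ?_
    rw [map_smul, Algebra.smul_def, IsScalarTower.algebraMap_apply K K' Ω]
    exact mul_mem (M.algebraMap_mem _) (subset_adjoin K' T ⟨i, rfl⟩)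
  have hCM : C ⊆ M.restrictScalars k := by
    rintro x (⟨y, rfl⟩ | ⟨y, rfl⟩)
    · exact hσM _
    · exact M.algebraMap_mem _
  have htM : σ D.t ∈ M.restrictScalars k := hσM _
  let S : Set Ω := C ∪ {σ D.t} ∪ Set.range w
  have hσS : ∀ x, σ x ∈ adjoin k S := fun x => by
    have hx := hspan x
    generalize σ x = y at hx
    induction hx using Submodule.span_induction with
    | mem x hx => exact subset_adjoin k S (Or.inr hx)
    | zero => exact zero_mem _
    | add a b _ _ ha hb => exact add_mem ha hb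
    | smul c a _ ha => exact mul_mem (adjoin.mono k _ _ Set.subset_union_left c.2) ha
  have hMle : M.restrictScalars k ≤ adjoin k S := by
    intro x hx
    have hx' : x ∈ Subfield.closure (Set.range (algebraMap K' Ω) ∪ T) := hx
    refine (Subfield.closure_le.2 ?_ : _ ≤ (adjoin k S).toSubfield) hx'
    rintro y (⟨a, rfl⟩ | ⟨i, rfl⟩)
    · have hle : adjoin k (Set.range (algebraMap K K') ∪ Set.range (algebraMap L K')) ≤
          (adjoin k S).comap (IsScalarTower.toAlgHom k K' Ω) := adjoin_le_iff.2 (by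
        rintro z (⟨c, rfl⟩ | ⟨c, rfl⟩)
        · show algebraMap K' Ω (algebraMap K K' c) ∈ adjoin k S
          rw [← IsScalarTower.algebraMap_apply, ← σ.commutes]
          exact hσS _
        · exact subset_adjoin k S (Or.inl (Or.inl (Or.inr ⟨c, rfl⟩))))
      exact hle (hgen ▸ IntermediateField.mem_top)
    · exact hσS _
  have h1 : (1 : Ω) ∈ Submodule.span P (Set.range w) := map_one σ ▸ hspan 1
  let KB' := adjoin k C
  letI : Algebra KB' M :=
    ((algebraMap KB' Ω).codRestrict M fun c => adjoin_le_iff.2 hCM c.2).toAlgebra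
  haveI : IsScalarTower KB' M Ω := IsScalarTower.of_algebraMap_eq fun _ => rfl
  haveI : IsScalarTower k KB' M := IsScalarTower.of_algebraMap_eq fun a => Subtype.ext rfl
  letI : Algebra KB' (M.restrictScalars k) := (inferInstance : Algebra KB' M)
  haveI : IsScalarTower k KB' (M.restrictScalars k) := (inferInstance : IsScalarTower k KB' M)
  have hb := build_aux (M := M.restrictScalars k) (C := C) (t := σ D.t) (w := w) (Q := KB')
    (fun c hc => ⟨⟨c, subset_adjoin k C hc⟩, rfl⟩) htM
    (adjoin KB' ({⟨σ D.t, htM⟩} : Set M)) (mem_adjoin_simple_self _ _) hMle (fun i => hσM _) h1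
    fun i j => map_mul σ (b i) (b j) ▸ hspan _
  letI : Algebra L KB' := (((algebraMap K' Ω).comp (algebraMap L K')).codRestrict KB'
    fun y => subset_adjoin k C (Or.inr ⟨y, rfl⟩)).toAlgebra
  letI : Algebra L M := ((algebraMap K' M).comp (algebraMap L K')).toAlgebra
  haveI : IsScalarTower L K' M := IsScalarTower.of_algebraMap_eq fun _ => rfl
  haveI : IsScalarTower L KB' M := IsScalarTower.of_algebraMap_eq fun _ => Subtype.ext rfl
  have htr : Transcendental KB' (⟨σ D.t, htM⟩ : M) := by
    letI : Algebra D.KB Ω := (σ.toRingHom.comp (algebraMap D.KB D.KC)).toAlgebra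
    haveI : IsScalarTower k D.KB Ω := IsScalarTower.of_algebraMap_eq fun a => by
      show _ = σ (algebraMap D.KB D.KC (algebraMap k D.KB a))
      rw [← IsScalarTower.algebraMap_apply, hσk]
    let σB : D.KC →ₐ[D.KB] Ω := { σ.toRingHom with commutes' := fun _ => rfl }
    have ht0 : Transcendental D.KB (σ D.t) := fun ha =>
      D.transc ((isAlgebraic_algHom_iff σB σB.injective).1 ha)
    let E : IntermediateField D.KB Ω := adjoin D.KB SL
    haveI : Algebra.IsAlgebraic D.KB E := isAlgebraic_adjoin (by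
      rintro _ ⟨y, rfl⟩
      exact (((Algebra.IsAlgebraic.isAlgebraic (R := k) y).isIntegral.map
        ((IsScalarTower.toAlgHom k K' Ω).comp (IsScalarTower.toAlgHom k L K')))).tower_top)
    have hE : Transcendental (E.restrictScalars k) (σ D.t) := ht0.extendScalars E
    intro ha
    refine transcendental_of_le (adjoin_le_iff.2 ?_ : KB' ≤ E.restrictScalars k) hE
      (ha.algebraMap : IsAlgebraic KB' (algebraMap M Ω ⟨σ D.t, htM⟩))
    rintro x (⟨y, rfl⟩ | hx)
    · exact E.algebraMap_mem y
    · exact subset_adjoin D.KB SL hx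
  haveI : Module.Finite (adjoin KB' ({⟨σ D.t, htM⟩} : Set M)) M := hb.1
  exact ⟨_, hb.2, { KC := M, KB := KB', t := ⟨σ D.t, htM⟩, transc := htr, finrank_eq := rfl },
    inferInstanceAs (Algebra.IsSeparable K' M)⟩

/-- Regard a diagram over an extension of the base as one over the base. -/
theorem restrict {k L K' : Type u} [Field k] [Field L] [Field K'] [Algebra k L] [Algebra k K'] [Algebra L K']
    [IsScalarTower k L K'] {e : ℕ} (D : CovDiag.{u} L K' e) :
    ∃ D' : CovDiag.{u} k K' e, Algebra.IsSeparable K' D.KC → Algebra.IsSeparable K' D'.KC := by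
  letI : Algebra k D.KC := ((algebraMap L D.KC).comp (algebraMap k L)).toAlgebra
  haveI : IsScalarTower k K' D.KC := IsScalarTower.of_algebraMap_eq fun a => by
    show algebraMap L D.KC (algebraMap k L a) = _
    rw [IsScalarTower.algebraMap_apply L K' D.KC, ← IsScalarTower.algebraMap_apply k L K']
  letI : Algebra k D.KB := ((algebraMap L D.KB).comp (algebraMap k L)).toAlgebra
  haveI : IsScalarTower k D.KB D.KC := IsScalarTower.of_algebraMap_eq fun a => by
    show algebraMap L D.KC (algebraMap k L a) = algebraMap D.KB D.KC (algebraMap L D.KB (algebraMap k L a))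
    rw [← IsScalarTower.algebraMap_apply L D.KB D.KC]
  exact ⟨{ KC := D.KC, KB := D.KB, t := D.t, transc := D.transc, finrank_eq := D.finrank_eq }, id⟩

open scoped TensorProduct in
theorem scvg_eq {k K L K' : Type u} [Field k] [Field K] [Field L] [Field K'] [Algebra k K] [Algebra k L]
    [Algebra.IsSeparable k L] (hfg : (⊤ : IntermediateField k K).FG)
    [Algebra (K ⊗[k] L) K'] [IsFractionRing (K ⊗[k] L) K'] [Algebra L K']
    (hL : ∀ x : L, algebraMap L K' x = algebraMap (K ⊗[k] L) K' ((1 : K) ⊗ₜ[k] x)) :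
    scvg L K' = scvg k K := by
  letI : Algebra K K' := ((algebraMap (K ⊗[k] L) K').comp (algebraMap K (K ⊗[k] L))).toAlgebra
  letI : Algebra k K' := ((algebraMap K K').comp (algebraMap k K)).toAlgebra
  haveI : IsScalarTower k K K' := IsScalarTower.of_algebraMap_eq fun _ => rfl
  haveI : IsScalarTower k L K' := IsScalarTower.of_algebraMap_eq fun a => by
    rw [hL, Algebra.algebraMap_eq_smul_one (A := L), TensorProduct.tmul_smul]
    show algebraMap (K ⊗[k] L) K' ((algebraMap k K a) ⊗ₜ[k] (1 : L)) = _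
    rw [Algebra.algebraMap_eq_smul_one (A := K), TensorProduct.smul_tmul']
  let R := Set.range (algebraMap K K') ∪ Set.range (algebraMap L K')
  have himg : ∀ z : K ⊗[k] L, algebraMap (K ⊗[k] L) K' z ∈ adjoin k R := by
    intro z
    induction z using TensorProduct.induction_on with
    | zero => simp
    | tmul a b =>
      rw [show a ⊗ₜ[k] b = (a ⊗ₜ[k] (1 : L)) * ((1 : K) ⊗ₜ[k] b) by simp, map_mul, ← hL]
      exact mul_mem (subset_adjoin k R (Or.inl ⟨a, rfl⟩)) (subset_adjoin k R (Or.inr ⟨b, rfl⟩))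
    | add a b ha hb => rw [map_add]; exact add_mem ha hb
  have hgen : adjoin k R = ⊤ := eq_top_iff.2 fun x _ => by
    obtain ⟨a, s, -, rfl⟩ := IsFractionRing.div_surjective (A := K ⊗[k] L) x
    exact div_mem (himg a) (himg s)
  haveI : Algebra.IsSeparable K K' := by
    have : adjoin K (Set.range (algebraMap L K')) = ⊤ := eq_top_iff.2 fun x hx => by
      have hle : adjoin k R ≤ (adjoin K (Set.range (algebraMap L K'))).restrictScalars k := adjoin_le_iff.2 (by
        rintro y (⟨a, rfl⟩ | hy)
        · exact (adjoin K _).algebraMap_mem a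
        · exact subset_adjoin K _ hy)
      exact hle (hgen ▸ IntermediateField.mem_top)
    have hs : Algebra.IsSeparable K (adjoin K (Set.range (algebraMap L K'))) :=
      (isSeparable_adjoin_iff_isSeparable K K').2 (by
        rintro _ ⟨y, rfl⟩
        exact IsSeparable.tower_top K (IsSeparable.map (IsScalarTower.toAlgHom k L K') (RingHom.injective _)
          (Algebra.IsSeparable.isSeparable k y)))
    rw [this] at hs
    exact Algebra.IsSeparable.of_algHom K _ (IntermediateField.topEquiv (F := K) (E := K')).symm.toAlgHom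
  unfold scvg
  refine le_antisymm ?_ ?_
  · rcases Set.eq_empty_or_nonempty {e : ℕ | ∃ D : CovDiag.{u} k K e, Algebra.IsSeparable K D.KC} with h | h
    · have h' : {e : ℕ | ∃ D : CovDiag.{u} L K' e, Algebra.IsSeparable K' D.KC} = ∅ := by
        refine Set.eq_empty_iff_forall_notMem.2 fun e he => ?_
        obtain ⟨D, hD⟩ := he
        obtain ⟨D₁, h₁⟩ := restrict (k := k) D
        obtain ⟨e', -, D₂, h₂⟩ := down hfg D₁ (h₁ hD)
        exact Set.eq_empty_iff_forall_notMem.1 h e' ⟨D₂, h₂⟩
      rw [h, h']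
    · obtain ⟨D, hD⟩ := Nat.sInf_mem h
      obtain ⟨e', hle, D', hD'⟩ := up hgen D hD
      refine (Nat.sInf_le (m := e') ?_).trans hle
      exact ⟨D', hD'⟩
  · rcases Set.eq_empty_or_nonempty {e : ℕ | ∃ D : CovDiag.{u} L K' e, Algebra.IsSeparable K' D.KC} with h | h
    · have h' : {e : ℕ | ∃ D : CovDiag.{u} k K e, Algebra.IsSeparable K D.KC} = ∅ := by
        refine Set.eq_empty_iff_forall_notMem.2 fun e he => ?_
        obtain ⟨D, hD⟩ := he
        obtain ⟨e', -, D₂, h₂⟩ := up hgen D hD
        exact Set.eq_empty_iff_forall_notMem.1 h e' ⟨D₂, h₂⟩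
      rw [h, h']
    · obtain ⟨D, hD⟩ := Nat.sInf_mem h
      obtain ⟨D₁, h₁⟩ := restrict (k := k) D
      obtain ⟨e', hle, D', hD'⟩ := down hfg D₁ (h₁ hD)
      refine (Nat.sInf_le (m := e') ?_).trans hle
      exact ⟨D', hD'⟩

end CovGonH7
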